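import Mathlib
import Cfsg.Agent.Lib.CZ.Ind
import Cfsg.Agent.Lib.Char.BurnsidePQ
import Cfsg.Agent.S0675
import Cfsg.Agent.S3559
import Cfsg.Agent.S3972

/-! Primitive groups with a transitive cyclic subgroup and a Z-group as point stabiliser. -/

set_option autoImplicit false

namespace H46.CZ

open Subgroup MulAction
open scoped commutatorElement

universe u

/-- The conclusion: `G ≅ PGL₂(p)`, `G` is complete and `a` has even order. -/
def Good (G : Type*) [Group G] (a : G) : Prop :=
  Even (orderOf a) ∧ (∀ σ : G ≃* G, ∃ g : G, ∀ x, σ x = g * x * g⁻¹) ∧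
    ∃ (F : Type) (_ : Field F) (_ : Fintype F) (p : ℕ), p.Prime ∧ 3 < p ∧ Fintype.card F = p ∧
      Nonempty (G ≃* (GL (Fin 2) F ⧸ Subgroup.center (GL (Fin 2) F)))

theorem no_compl {G : Type*} [Group G] [Finite G] {a : G}
    (hK : ∀ K : Subgroup G, K.Normal → a ∈ K → K = ⊤) {r : ℕ} [hr : Fact r.Prime] (P : Sylow r G)
    (hN : normalizer P ≤ centralizer (P : Set G)) (hd : r ∣ Nat.card G) (ha : ¬ r ∣ orderOf a) :
    False := by
  have h1 : a ∈ (MonoidHom.transferSylow P hN).ker := by
    obtain ⟨k, hk⟩ := IsPGroup.iff_orderOf.1 P.2 (MonoidHom.transferSylow P hN a)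
    have h2 := orderOf_map_dvd (MonoidHom.transferSylow P hN) a
    rw [hk] at h2
    rcases k with _ | k
    · exact orderOf_eq_one_iff.1 hk
    · exact (ha ((dvd_pow_self r k.succ_ne_zero).trans h2)).elim
  have h2 := MonoidHom.not_dvd_card_ker_transferSylow P hN
  rw [hK _ inferInstance h1, card_top] at h2
  exact h2 hd

theorem exists_sylow {G : Type*} [Group G] [Finite G] (B : Subgroup G) {r : ℕ} [hr : Fact r.Prime]
    (h : ¬ r ∣ B.index) : ∃ (Q : Sylow r B) (P : Sylow r G), (P : Subgroup G) = Q.map B.subtype := by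
  obtain ⟨Q⟩ : Nonempty (Sylow r B) := inferInstance
  exact ⟨Q, (Q.2.map B.subtype).toSylow (by
    rw [index_map_subtype]; exact hr.1.not_dvd_mul Q.not_dvd_index h), rfl⟩

section

variable {G Ω : Type u} [Group G] [Finite G] [MulAction G Ω] {a : G} {α : Ω}
  (hf : ∀ g : G, (∀ x : Ω, g • x = x) → g = 1) (ha : ∀ x : Ω, ∃ g ∈ zpowers a, g • α = x)
  (hns : ¬ Group.IsSolvable G)

omit [Finite G] in
include ha in
theorem tr_all (x y : Ω) : ∃ g ∈ zpowers a, g • x = y := by
  obtain ⟨g, hg, rfl⟩ := ha x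
  obtain ⟨k, hk, rfl⟩ := ha y
  exact ⟨k * g⁻¹, mul_mem hk (inv_mem hg), by simp [mul_smul]⟩

omit [Finite G] in
include hf ha in
theorem a_free {g : G} (hg : g ∈ zpowers a) {x : Ω} (h : g • x = x) : g = 1 :=
  hf g fun y => by
    obtain ⟨k, hk, rfl⟩ := tr_all ha x y
    rw [← mul_smul, comm_of_zpowers hg hk, mul_smul, h]

omit [Finite G] in
include hf ha in
theorem order_a : orderOf a = Nat.card Ω := by
  rw [← Nat.card_zpowers]
  refine Nat.card_congr (Equiv.ofBijective (fun k => k.1 • α) ⟨fun k l h => ?_, fun y => ?_⟩)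
  · have := a_free hf ha (mul_mem (inv_mem l.2) k.2) (x := α) (by
      rw [mul_smul, show k.1 • α = l.1 • α from h, inv_smul_smul])
    exact Subtype.ext (inv_mul_eq_one.1 this).symm
  · obtain ⟨g, hg, h⟩ := ha y
    exact ⟨⟨g, hg⟩, h⟩

omit [Finite G] in
include hf in
theorem inj_perm : Function.Injective (toPermHom G Ω) :=
  (injective_iff_map_eq_one _).2 fun g h => hf g fun x => DFunLike.congr_fun h x

include hf ha hns in
theorem four_lt : 4 < Nat.card Ω := by
  have : Finite Ω := Nat.finite_of_card_ne_zero (by rw [← order_a hf ha]; exact (orderOf_pos _).ne')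
  by_contra h
  have : Group.IsSolvable (Equiv.Perm Ω) := by
    refine H8.isSolvable_of_two_primes Nat.prime_two Nat.prime_three fun r hr hd => ?_
    rw [Nat.card_perm, hr.dvd_factorial] at hd
    have := hr.two_le
    have h4 : r ≠ 4 := by rintro rfl; norm_num at hr
    omega
  exact hns (Group.isSolvable_of_isSolvable_injective (inj_perm hf))

include hf ha hns in
theorem two_trans (hc : IsCoatom (stabilizer G α)) (x y x' y' : Ω) (h : x ≠ y) (h' : x' ≠ y') :
    ∃ g : G, g • x = x' ∧ g • y = y' := by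
  classical
  have h4 := four_lt hf ha hns
  have : Finite Ω := Nat.finite_of_card_ne_zero (by omega)
  let _ := Fintype.ofFinite Ω
  have : Nontrivial Ω := ⟨x, y, h⟩
  have htr : IsPretransitive G Ω := ⟨fun x y => (tr_all ha x y).imp fun _ h => h.2⟩
  have hp : IsPreprimitive G Ω := (isCoatom_stabilizer_iff_preprimitive G α).1 hc
  by_cases hpp : IsPrimePow (Nat.card Ω)
  · have key : IsMultiplyPretransitive (toPermHom G Ω).range Ω 2 := by
      let φ : Ω →ₑ[(toPermHom G Ω).rangeRestrict] Ω := ⟨id, fun _ _ => rfl⟩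
      have hp' : IsPreprimitive (toPermHom G Ω).range Ω :=
        IsPreprimitive.of_surjective (f := φ) Function.surjective_id
      obtain ⟨p, k, hp, hk, e⟩ := (isPrimePow_nat_iff _).1 hpp
      rcases Nat.lt_or_ge k 2 with hk2 | hk2
      · obtain rfl : k = 1 := by omega
        refine (Cfsg.Agent.S0675.result (by rw [← Nat.card_eq_fintype_card, ← e, pow_one]; exact hp)
          _).resolve_left fun hs => hns ?_
        exact Group.isSolvable_of_isSolvable_injective
          (f := (MonoidHom.ofInjective (inj_perm hf)).toMonoidHom) (MulEquiv.injective _)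
      · by_contra h2
        exact (Cfsg.Agent.S3972.result p k hp hk2 (by rw [← Nat.card_eq_fintype_card, e]) _
          hp'.toIsPretransitive h2 (MonoidHom.ofInjective (inj_perm hf) a) (by
            rw [MulEquiv.orderOf_eq, order_a hf ha, e])).1 hp'
    obtain ⟨⟨_, g, rfl⟩, h1, h2⟩ := is_two_pretransitive_iff.1 key h h'
    exact ⟨g, h1, h2⟩
  · have : FaithfulSMul G Ω := ⟨fun {g k} e => inj_perm hf (Equiv.ext e)⟩
    have := (Cfsg.Agent.S3559.result htr (by omega) hpp (zpowers a) inferInstance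
      ⟨⟨fun x y => by
        obtain ⟨g, hg, e⟩ := tr_all ha x y
        exact ⟨⟨g, hg⟩, e⟩⟩, fun x => eq_bot_iff.2 fun g hg =>
          mem_bot.2 (Subtype.ext (a_free hf ha g.2 hg))⟩).resolve_left (not_not.2 hp)
    exact is_two_pretransitive_iff.1 this h h'

include hf ha hns in
theorem prim_good (hc : IsCoatom (stabilizer G α)) (hZ : IsZGroup (stabilizer G α))
    (hK : ∀ K : Subgroup G, K.Normal → a ∈ K → K = ⊤) : Good G a := by
  have h4 := four_lt hf ha hns
  have : Finite Ω := Nat.finite_of_card_ne_zero (by omega)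
  have two := two_trans hf ha hns hc
  have hoa := order_a hf ha
  have htr : IsPretransitive G Ω := ⟨fun x y => (tr_all ha x y).imp fun _ h => h.2⟩
  have hB : (stabilizer G α).index = Nat.card Ω := index_stabilizer_of_transitive G α
  have hev : Even (orderOf a) := by
    by_contra ho
    have : Fact (Nat.Prime 2) := ⟨Nat.prime_two⟩
    obtain ⟨Q, P, hP⟩ := exists_sylow (stabilizer G α) (r := 2)
      (by rw [hB, ← hoa, ← even_iff_two_dvd]; exact ho)
    have hcyc : IsCyclic P := by
      rw [hP]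
      exact isCyclic_of_surjective _ ((stabilizer G α).subtype.subgroupMap_surjective Q)
    have h2 : 2 ∣ Nat.card G := by
      have : Nontrivial Ω := Finite.one_lt_card_iff_nontrivial.1 (by omega)
      obtain ⟨y, hy⟩ := exists_ne α
      obtain ⟨g, h1, h2⟩ := two α y y α hy.symm hy
      refine dvd_trans ?_ (orderOf_dvd_natCard g)
      by_contra h3
      obtain ⟨k, hk⟩ := Nat.not_even_iff_odd.1 (mt even_iff_two_dvd.1 h3)
      have h5 : (g ^ 2) ^ k • α = α :=
        zpowers_fix (g := g ^ 2) (by rw [pow_two, mul_smul, h1, h2]) (npow_mem_zpowers _ _)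
      have h6 := congrArg (· • α) (pow_orderOf_eq_one g)
      simp only [hk, pow_succ', pow_mul, mul_smul, one_smul] at h6
      rw [h5, h1] at h6
      exact hy h6
    exact no_compl hK P (hcyc.normalizer_le_centralizer ((Nat.minFac_eq_two_iff _).2 h2)) h2
      (by rw [← even_iff_two_dvd]; exact ho)
  obtain ⟨k, hk⟩ := hev
  have hu2 : a ^ k * a ^ k = 1 := by rw [← pow_add, ← hk, pow_orderOf_eq_one]
  have hu1 : a ^ k ≠ 1 := pow_ne_one_of_lt_orderOf (by omega) (by omega)
  have hβ : a ^ k • α ≠ α := fun h => hu1 (a_free hf ha (npow_mem_zpowers _ _) h)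
  set β := a ^ k • α with hβd
  have := IsZGroup.isCyclic_commutator (stabilizer G α)
  obtain ⟨m, hm⟩ := IsCyclic.exists_generator (α := _root_.commutator (stabilizer G α))
  have hmem : ∀ b : stabilizer G α, b ∈ _root_.commutator (stabilizer G α) ↔
      (b : G) ∈ zpowers (m.1 : G) := fun b => by
    refine ⟨fun h => ?_, fun h => ?_⟩
    · obtain ⟨i, hi⟩ := mem_zpowers_iff.1 (hm ⟨b, h⟩)
      exact mem_zpowers_iff.2 ⟨i, by simpa using congrArg (fun x => (x.1 : G)) hi⟩
    · obtain ⟨i, hi⟩ := mem_zpowers_iff.1 h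
      exact (show m.1 ^ i = b from Subtype.ext hi) ▸ zpow_mem m.2 i
  have hnorm : ∀ b : G, b • α = α → b * m.1 * b⁻¹ ∈ zpowers (m.1 : G) := fun b hb =>
    (hmem _).1 ((inferInstance : (_root_.commutator (stabilizer G α)).Normal).conj_mem _ m.2
      ⟨b, hb⟩)
  have hBtr : ∀ x y : Ω, x ≠ α → y ≠ α → ∃ b : stabilizer G α, b • x = y := fun x y hx hy => by
    obtain ⟨g, h1, h2⟩ := two α x α y hx.symm hy.symm
    exact ⟨⟨g, h1⟩, h2⟩
  have hfree : ∀ g ∈ zpowers (m.1 : G), ∀ x ≠ α, g • x = x → g = 1 := fun g hg x hx h =>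
    hf g fun y => by
      by_cases hy : y = α
      · rw [hy]; exact zpowers_fix m.1.2 hg
      obtain ⟨b, rfl⟩ := hBtr x y hx hy
      obtain ⟨t, ht⟩ := mem_zpowers_iff.1 (hnorm _ (inv_mem b.2))
      obtain ⟨i, rfl⟩ := mem_zpowers_iff.1 hg
      have h1 : (b : G)⁻¹ * (m.1 : G) ^ i * (b : G)⁻¹⁻¹ = ((m.1 : G) ^ i) ^ t := by
        rw [← conj_zpow, ← ht, ← zpow_mul, ← zpow_mul, mul_comm]
      have h2 := zpowers_fix h (h1 ▸ zpow_mem_zpowers _ t)
      rw [inv_inv, mul_smul, mul_smul, inv_smul_eq_iff] at h2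
      exact h2
  have hidx : ∀ x ≠ α, (stabilizer (stabilizer G α) x).index + 1 = Nat.card Ω := fun x hx => by
    rw [index_stabilizer]
    have : orbit (stabilizer G α) x = {α}ᶜ := by
      ext y
      refine ⟨?_, fun hy => hBtr x y hx hy⟩
      rintro ⟨b, rfl⟩ h
      exact hx (MulAction.injective (b : G) (h.trans b.2.symm))
    rw [this, ← Set.ncard_add_ncard_compl {α}, Set.ncard_singleton, add_comm]
  have hD : IsCyclic (stabilizer (stabilizer G α) β) := by
    refine isCyclic_of_injective (Abelianization.of.comp (Subgroup.subtype _))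
      ((injective_iff_map_eq_one _).2 fun e he => ?_)
    have h1 : e.1 ∈ _root_.commutator (stabilizer G α) := by
      rw [← Abelianization.ker_of]; exact he
    exact Subtype.ext (Subtype.ext (hfree _ ((hmem _).1 h1) β hβ e.2))
  obtain ⟨d, hd⟩ := IsCyclic.exists_generator (α := stabilizer (stabilizer G α) β)
  have htop : _root_.commutator (stabilizer G α) ⊔ stabilizer (stabilizer G α) β = ⊤ := by
    by_contra hne
    obtain ⟨r, hr, hrd⟩ := Nat.exists_prime_and_dvd (mt index_eq_one.1 hne)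
    have : Fact r.Prime := ⟨hr⟩
    have hr1 : ∀ x ≠ α, r ∣ (stabilizer (stabilizer G α) x).index := fun x hx => by
      have h1 := hrd.trans (index_dvd_of_le le_sup_right)
      have h2 := hidx x hx
      have h3 := hidx β hβ
      rwa [show (stabilizer (stabilizer G α) x).index = _ from Nat.succ_injective (h2.trans h3.symm)]
    have hrn : ¬ r ∣ Nat.card Ω := fun h => by
      rw [← hidx β hβ, Nat.dvd_add_right (hr1 β hβ), Nat.dvd_one] at h
      exact hr.ne_one h
    obtain ⟨Q, P, hP⟩ := exists_sylow (stabilizer G α) (r := r) (by rwa [hB])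
    have hdis : Disjoint (_root_.commutator (stabilizer G α)) Q := by
      obtain ⟨i, hi⟩ := Q.2.exists_card_eq
      refine disjoint_of_coprime_natCard (hi ▸ Nat.Coprime.pow_right _ ?_)
      exact (IsZGroup.coprime_commutator_index _).coprime_dvd_right
        (hrd.trans (index_dvd_of_le le_sup_left))
    refine no_compl hK P (fun g hg => ?_) (((hr1 β hβ).trans (index_dvd_card _)).trans
      (card_subgroup_dvd_card _)) (by rwa [hoa])
    have hg' : ∀ x ∈ (P : Subgroup G), g⁻¹ * x * g⁻¹⁻¹ ∈ (P : Subgroup G) := fun x hx =>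
      (mem_normalizer_iff.1 (inv_mem hg) x).1 hx
    have hgα : g • α = α := by
      by_contra hne
      refine Q.not_dvd_index ((hr1 _ hne).trans (index_dvd_of_le fun x hx => ?_))
      have h1 := hg' x (hP ▸ mem_map_of_mem _ hx)
      rw [hP] at h1
      have h2 : (g⁻¹ * x * g⁻¹⁻¹) • α = α := map_subtype_le _ h1
      rw [inv_inv, mul_smul, mul_smul, inv_smul_eq_iff] at h2
      exact h2
    intro x hx
    have h1 := mul_mem (hg' x hx) (inv_mem hx)
    change x ∈ (P : Subgroup G) at hx
    rw [hP] at hx h1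
    obtain ⟨x, -, rfl⟩ := hx
    obtain ⟨y, hy, e⟩ := h1
    have h2 : y = ⁅(⟨g, hgα⟩ : stabilizer G α)⁻¹, x⁆ := Subtype.ext e
    have h3 := disjoint_def.1 hdis (h2 ▸ commutator_mem_commutator (mem_top _) (mem_top _)) hy
    rw [h3] at e
    have e' : (1 : G) = g⁻¹ * x * g⁻¹⁻¹ * (x : G)⁻¹ := e
    change (x : G) * g = g * x
    calc _ = g * (g⁻¹ * x * g⁻¹⁻¹ * (x : G)⁻¹) * x := by group
      _ = _ := by rw [← e', mul_one]
  let C : Cfg G Ω :=
    { a := a
      u := a ^ k
      m := m.1
      d := d.1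
      α := α
      faith := hf
      two := two
      a_tr := tr_all ha
      u_mem := npow_mem_zpowers _ _
      u_sq := hu2
      u_ne := hu1
      m_fix := m.1.2
      m_norm := hnorm
      m_tr := fun x y hx hy => by
        have key : ∀ x ≠ α, ∃ k ∈ zpowers (m.1 : G), k • β = x := fun x hx => by
          obtain ⟨b, rfl⟩ := hBtr β x hβ hx
          obtain ⟨k, hk, e, he, rfl⟩ := mem_sup_of_normal_left.1 (htop ▸ mem_top b)
          exact ⟨k, (hmem _).1 hk, by rw [mul_smul, show e • β = β from he]; rfl⟩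
        obtain ⟨k, hk, rfl⟩ := key x hx
        obtain ⟨l, hl, rfl⟩ := key y hy
        exact ⟨l * k⁻¹, mul_mem hl (inv_mem hk), by simp [mul_smul]⟩
      d_α := d.1.2
      d_β := d.2
      d_gen := fun g h1 h2 => by
        obtain ⟨i, hi⟩ := mem_zpowers_iff.1 (hd ⟨⟨g, h1⟩, h2⟩)
        exact mem_zpowers_iff.2 ⟨i, by simpa using congrArg (fun x => (x.1 : G)) hi⟩
      big := by omega }
  obtain ⟨F, _, _, hF, e⟩ := C.sharp.iso
  have := C.order_m
  exact ⟨⟨k, hk⟩, C.sharp.inner, F, _, _, _, C.sharp.prime, by omega, hF, e⟩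

end

end H46.CZ
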