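import Mathlib
import Cfsg.Agent.Lib.CZ.Prim
import Cfsg.Agent.Lib.Core.Fitting
import Cfsg.Agent.S4222

/-! Products of a cyclic group and a Z-group with trivial solvable radical are `PGL₂(p)`. -/

set_option autoImplicit false

namespace H46.CZ

open Subgroup MulAction Cfsg

universe u

/-- `G = ⟨a⟩ B` with `B` a Z-group. -/
def Fac {G : Type*} [Group G] (a : G) (B : Subgroup G) : Prop :=
  IsZGroup B ∧ ∀ g : G, ∃ x ∈ zpowers a, ∃ b ∈ B, g = x * b

section

variable {G : Type*} [Group G] [Finite G] {a : G} {B : Subgroup G}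

omit [Finite G] in
theorem bot_of_solv (h : solvableRadical G = ⊥) {K : Subgroup G} [K.Normal]
    (hK : Group.IsSolvable K) : K = ⊥ := le_bot_iff.1 (h ▸ H1.le_solvableRadical hK)

theorem rad_sub (h : solvableRadical G = ⊥) (K : Subgroup G) [hK : K.Normal] :
    solvableRadical K = ⊥ := by
  have := H1.map_subtype_solvableRadical_eq_of_isSubnormal (Subgroup.Normal.isSubnormal hK)
  rwa [h, bot_inf_eq, map_eq_bot_iff_of_injective _ K.subtype_injective] at this

theorem Fac.map (h : Fac a B) {Q : Type*} [Group Q] {π : G →* Q} (hπ : Function.Surjective π) :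
    Fac (π a) (B.map π) := by
  have := h.1
  refine ⟨IsZGroup.of_surjective (π.subgroupMap_surjective B), fun g => ?_⟩
  obtain ⟨g, rfl⟩ := hπ g
  obtain ⟨x, hx, b, hb, rfl⟩ := h.2 g
  refine ⟨π x, ?_, π b, mem_map_of_mem _ hb, map_mul _ _ _⟩
  rw [← MonoidHom.map_zpowers]
  exact mem_map_of_mem _ hx

omit [Finite G] in
theorem Fac.conj_mem (h : Fac a B) {M : Subgroup G} (hM : B ≤ M) {x : G} (hx : x ∈ zpowers a)
    (hxM : x ∈ M) : x ∈ M.normalCore := fun g => by
  obtain ⟨y, hy, b, hb, e⟩ := h.2 g⁻¹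
  rw [inv_eq_iff_eq_inv.1 e, inv_inv, mul_inv_rev]
  have : b⁻¹ * y⁻¹ * x * (y * b) = b⁻¹ * x * b := by
    rw [mul_assoc b⁻¹, comm_of_zpowers (inv_mem hy) hx]; group
  rw [this]
  exact mul_mem (mul_mem (inv_mem (hM hb)) hxM) (hM hb)

theorem Fac.inf (h : Fac a B) (hr : solvableRadical G = ⊥) {x : G} (hx : x ∈ zpowers a)
    (hxB : x ∈ B) : x = 1 := by
  have := h.1
  have h1 : B.normalCore = ⊥ := bot_of_solv hr
    (Group.isSolvable_of_isSolvable_injective (inclusion_injective B.normalCore_le))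
  exact mem_bot.1 (h1 ▸ h.conj_mem le_rfl hx hxB)

omit [Finite G] in
theorem Fac.sub (h : Fac a B) (K : Subgroup G) {a' : K}
    (h1 : ∀ x ∈ zpowers a, ∀ b ∈ B, x * b ∈ K → x ∈ zpowers (a' : G)) :
    Fac a' (B.subgroupOf K) := by
  have := h.1
  refine ⟨IsZGroup.of_injective (f := K.subtype.subgroupComap B) fun x y e =>
    Subtype.ext (Subtype.ext (congrArg (fun t : B => (t : G)) e)), fun g => ?_⟩
  obtain ⟨x, hx, b, hb, e⟩ := h.2 g
  obtain ⟨i, rfl⟩ := mem_zpowers_iff.1 (h1 x hx b hb (e ▸ g.2))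
  refine ⟨a' ^ i, zpow_mem_zpowers _ _, (a' ^ i)⁻¹ * g, ?_, by group⟩
  rw [mem_subgroupOf, coe_mul, coe_inv, e]
  simpa using hb

theorem Good.compl (hr : solvableRadical G = ⊥) {K : Subgroup G} [K.Normal] {a' : K}
    (h : Good K a') : (centralizer (K : Set G)).IsComplement' K :=
  Cfsg.Agent.S4222.result K (bot_of_solv (rad_sub hr K)
    (Group.isSolvable_of_comm fun x y => Subtype.ext (mem_center_iff.1 y.2 x))) fun σ => by
    obtain ⟨g, hg⟩ := h.2.1 σ
    exact ⟨g, MulEquiv.ext fun x => (hg x).symm⟩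

theorem rad_quot (hr : solvableRadical G = ⊥) {K C : Subgroup G} [K.Normal] [C.Normal]
    (h : C.IsComplement' K) : solvableRadical (G ⧸ K) = ⊥ := by
  have hb : Function.Bijective ((QuotientGroup.mk' K).comp C.subtype) := by
    refine ⟨(injective_iff_map_eq_one _).2 fun x hx => Subtype.ext
      (disjoint_def.1 h.disjoint x.2 ((QuotientGroup.eq_one_iff _).1 hx)), fun y => ?_⟩
    obtain ⟨g, rfl⟩ := QuotientGroup.mk'_surjective K y
    obtain ⟨⟨c, k⟩, rfl⟩ := h.2 g
    exact ⟨c, by simp⟩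
  rw [← H1.map_solvableRadical_equiv (MulEquiv.ofBijective _ hb), rad_sub hr C, Subgroup.map_bot]

theorem exists_inv {c : G} (h : Even (orderOf c)) : ∃ x ∈ zpowers c, x * x = 1 ∧ x ≠ 1 := by
  obtain ⟨k, hk⟩ := h
  have := orderOf_pos c
  exact ⟨c ^ k, npow_mem_zpowers _ _, by rw [← pow_add, ← hk, pow_orderOf_eq_one],
    pow_ne_one_of_lt_orderOf (by omega) (by omega)⟩

theorem card_quot_lt {K : Subgroup G} [K.Normal] (h : K ≠ ⊥) : Nat.card (G ⧸ K) < Nat.card G := by
  rw [card_eq_card_quotient_mul_card_subgroup K]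
  exact lt_mul_of_one_lt_right Nat.card_pos ((one_lt_card_iff_ne_bot K).2 h)

theorem card_sub_lt {K : Subgroup G} (h : K ≠ ⊤) : Nat.card K < Nat.card G :=
  lt_of_le_of_ne (card_le_card_group K) fun e => h (eq_top_of_card_eq K e)

end

theorem main_aux (n : ℕ) : ∀ (G : Type u) [Group G] [Finite G] (a : G) (B : Subgroup G),
    Nat.card G = n → Nontrivial G → solvableRadical G = ⊥ → Fac a B → Good G a := by
  induction n using Nat.strong_induction_on with
  | _ n ih =>
  intro G _ _ a B hn hnt hr hF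
  subst hn
  have hZ := hF.1
  have hns : ¬ Group.IsSolvable G := fun h =>
    bot_ne_top (hr.symm.trans (H1.solvableRadical_eq_top_iff.2 h))
  have hsub : ∀ (K : Subgroup G) [K.Normal] (a' : K), K ≠ ⊥ → K ≠ ⊤ → Fac a' (B.subgroupOf K) →
      (centralizer (K : Set G)).IsComplement' K := fun K _ a' h1 h2 h3 =>
    (ih _ (card_sub_lt h2) K a' _ rfl ((nontrivial_iff_ne_bot K).2 h1) (rad_sub hr K) h3).compl hr
  have hK : ∀ K : Subgroup G, K.Normal → a ∈ K → K = ⊤ := fun K _ haK => by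
    by_contra hne
    have hs : Group.IsSolvable (G ⧸ K) := by
      refine Group.isSolvable_of_surjective (f := (QuotientGroup.mk' K).comp B.subtype) fun y => ?_
      obtain ⟨g, rfl⟩ := QuotientGroup.mk'_surjective K y
      obtain ⟨x, hx, b, hb, rfl⟩ := hF.2 g
      exact ⟨⟨b, hb⟩, by simp [(QuotientGroup.eq_one_iff x).2 (zpowers_le.2 haK hx)]⟩
    have hb : K ≠ ⊥ := by
      rintro rfl
      exact hns (Group.isSolvable_of_surjective (f := QuotientGroup.quotientBot.toMonoidHom)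
        (MulEquiv.surjective _))
    have hc := hsub K ⟨a, haK⟩ hb hne (hF.sub K fun x hx _ _ _ => hx)
    have := H1.solvableRadical_eq_top_iff.2 hs
    rw [rad_quot hr hc] at this
    have : Nontrivial (G ⧸ K) := QuotientGroup.nontrivial_iff.2 hne
    exact bot_ne_top ‹(⊥ : Subgroup (G ⧸ K)) = ⊤›
  have hB : B ≠ ⊤ := by
    rintro rfl
    exact hns (Group.isSolvable_of_surjective (f := topEquiv.toMonoidHom) (MulEquiv.surjective _))
  obtain ⟨M, hM, hBM⟩ := (eq_top_or_exists_le_coatom B).resolve_left hB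
  by_cases hcore : M.normalCore = ⊥
  · have hMB : B = M := le_antisymm hBM fun g hg => by
      obtain ⟨x, hx, b, hb, rfl⟩ := hF.2 g
      have h1 := hF.conj_mem hBM hx ((mul_mem_cancel_right (hBM hb)).1 hg)
      rw [hcore, mem_bot] at h1
      rwa [h1, one_mul]
    subst hMB
    refine prim_good (Ω := G ⧸ B) (α := ((1 : G) : G ⧸ B)) (fun g hg => ?_) (fun y => ?_) hns
      (by rwa [stabilizer_quotient]) (by rwa [stabilizer_quotient]) hK
    · rw [← mem_bot, ← hcore, normalCore_eq_ker]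
      exact Equiv.ext hg
    · obtain ⟨g, rfl⟩ := QuotientGroup.mk_surjective y
      obtain ⟨x, hx, b, hb, rfl⟩ := hF.2 g
      exact ⟨x, hx, QuotientGroup.eq.2 (by simpa using hb)⟩
  exfalso
  set K := M.normalCore with hKd
  have hKt : K ≠ ⊤ := fun h => hM.1 (top_le_iff.1 (h ▸ M.normalCore_le))
  obtain ⟨a', ha', ha'M, hg⟩ := exists_gen a M
  have hc := hsub K ⟨a', hF.conj_mem hBM ha' ha'M⟩ hcore hKt (hF.sub K fun x hx b hb h =>
    hg x hx ((mul_mem_cancel_right (hBM hb)).1 (M.normalCore_le h)))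
  set C := centralizer (K : Set G) with hCd
  have key : ∀ (K C : Subgroup G) [K.Normal] [C.Normal], C.IsComplement' K → K ≠ ⊥ → K ≠ ⊤ →
      Even (orderOf (QuotientGroup.mk' K a)) ∧ ∀ x ∈ zpowers a, ∀ b ∈ B, x * b ∈ K → b ∈ K :=
    fun K C _ _ hc h1 h2 => by
      have hF' := hF.map (QuotientGroup.mk'_surjective K)
      refine ⟨(ih _ (card_quot_lt h1) _ _ _ rfl (QuotientGroup.nontrivial_iff.2 h2)
        (rad_quot hr hc) hF').1, fun x hx b hb h => ?_⟩
      refine (QuotientGroup.eq_one_iff b).1 (hF'.inf (rad_quot hr hc) ?_ (mem_map_of_mem _ hb))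
      have h3 : QuotientGroup.mk' K x * QuotientGroup.mk' K b = 1 :=
        (QuotientGroup.eq_one_iff _).2 h
      change QuotientGroup.mk' K b ∈ _
      rw [eq_inv_of_mul_eq_one_right h3, ← MonoidHom.map_zpowers]
      exact inv_mem (mem_map_of_mem _ hx)
  have hCb : C ≠ ⊥ := fun h => hKt (isComplement'_bot_left.1 (h ▸ hc))
  have hCt : C ≠ ⊤ := fun h => hcore (isComplement'_top_left.1 (h ▸ hc))
  obtain ⟨e1, h1⟩ := key K C hc hcore hKt
  obtain ⟨e2, h2⟩ := key C K hc.symm hCb hCt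
  obtain ⟨⟨c, k⟩, hck⟩ := hc.2 a
  change (c : G) * k = a at hck
  obtain ⟨x, hx, b, hb, e⟩ := hF.2 k
  have hb1 : b = 1 := by
    refine disjoint_def.1 hc.disjoint (h2 (a⁻¹ * x) (mul_mem (inv_mem (mem_zpowers _)) hx) b hb ?_)
      (h1 x hx b hb (e ▸ k.2))
    rw [mul_assoc, ← e, ← hck, mul_inv_rev]
    simpa using (inferInstance : C.Normal).conj_mem _ (inv_mem c.2) (k : G)⁻¹
  rw [hb1, mul_one] at e
  have hk : (k : G) ∈ zpowers a := e ▸ hx
  have hc' : (c : G) ∈ zpowers a := by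
    rw [eq_mul_inv_of_mul_eq hck]; exact mul_mem (mem_zpowers _) (inv_mem hk)
  have e3 : Even (orderOf (c : G)) := by
    have : QuotientGroup.mk' K a = QuotientGroup.mk' K c := by
      rw [← hck]; simp
    rw [this] at e1
    exact even_iff_two_dvd.2 ((even_iff_two_dvd.1 e1).trans (orderOf_map_dvd _ _))
  have e4 : Even (orderOf (k : G)) := by
    have : QuotientGroup.mk' C a = QuotientGroup.mk' C k := by
      rw [← hck]; simp [(QuotientGroup.eq_one_iff (c : G)).2 c.2]
    rw [this] at e2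
    exact even_iff_two_dvd.2 ((even_iff_two_dvd.1 e2).trans (orderOf_map_dvd _ _))
  obtain ⟨y, hy, hy2, hy1⟩ := exists_inv e3
  obtain ⟨w, hw, hw2, hw1⟩ := exists_inv e4
  have := cyc_inv (zpowers_le.2 hc' hy) (zpowers_le.2 hk hw) hy2 hw2 hy1 hw1
  exact hy1 (disjoint_def.1 hc.disjoint (zpowers_le.2 c.2 hy) (this ▸ zpowers_le.2 k.2 hw))

theorem main {G : Type u} [Group G] [Finite G] {a : G} {B : Subgroup G} [Nontrivial G]
    (hr : solvableRadical G = ⊥) (hF : Fac a B) : Good G a :=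
  main_aux _ G a B rfl ‹_› hr hF

end H46.CZ
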